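import Cfsg.Agent.H977.PG.Elt

/-!
# S4884, block G: the targets of the orthogonal rows from `CoreB` (helper977)

`qOdd_of`, `qMinus_of` are `H234.CC.QOdd q`, `QMinus q`, `qPlus_of` is the hypothesis of `H478.CC.row_oplus_of`
(totally singular subspaces).
-/

set_option autoImplicit false

namespace Cfsg.Agent.H977.PG

open QuadraticMap
open Cfsg Cfsg.Agent.H21.PG Cfsg.Agent.H439.CC
open Cfsg.Agent.LieClassical Cfsg.Agent.LieClassical.OrthCore Cfsg.Agent.LieClassical.OrthTrans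
open Cfsg.Agent.LieClassical.OrthFinite Cfsg.Agent.LieClassical.OrthForms
open Cfsg.Agent.TitsThree.KSideO

theorem good_odd {F : Type*} [Field F] [Finite F] {m : ℕ} (h2 : (2 : F) ≠ 0) (hm : 2 ≤ m) : Good (oddForm m F) := by
  apply good_of_finite (nondeg_oddForm m F h2)
  rw [finrank_odd]
  omega

theorem good_minus {F : Type*} [Field F] [Finite F] {m : ℕ} {a b : F}
    (hab : ∀ z₁ z₂ : F, z₁ ^ 2 + a * z₁ * z₂ + b * z₂ ^ 2 = 0 → z₁ = 0 ∧ z₂ = 0) (hm : 2 ≤ m) :
    Good (minusForm m F a b) := by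
  apply good_of_finite (nondeg_minusForm m F a b hab)
  rw [finrank_minus]
  omega

theorem good_plus {F : Type*} [Field F] [Finite F] {m : ℕ} (hm : 3 ≤ m) : Good (plusForm m F) := by
  apply good_of_finite (nondeg_plusForm m F)
  rw [finrank_plus]
  omega

/-- **odd dimension** -/
theorem qOdd_of (hB : CoreB.{0, 0}) {q : ℕ} [Fact q.Prime] (hq2 : q ≠ 2) :
    ∀ (F : Type) [Field F] [Finite F] (m : ℕ), 3 ≤ m → (q : F) ≠ 0 → (2 : F) ≠ 0 →
      q ∣ Nat.card (POmega F ⇑(oddForm m F)) → QElt (TI (HO (oddForm m F))) (E (oddForm m F)).subtype q m :=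
  fun _ _ _ _ hm hqF h2 h => qelt_odd hB (good_odd h2 (by omega)) hq2 h2 hqF (by omega) h

/-- **minus type** -/
theorem qMinus_of (hB : CoreB.{0, 0}) {q : ℕ} [Fact q.Prime] (hq2 : q ≠ 2) :
    ∀ (F : Type) [Field F] [Finite F] (m : ℕ) (a b : F), 3 ≤ m → (q : F) ≠ 0 → (2 : F) ≠ 0 →
      (∀ z₁ z₂ : F, z₁ ^ 2 + a * z₁ * z₂ + b * z₂ ^ 2 = 0 → z₁ = 0 ∧ z₂ = 0) →
      q ∣ Nat.card (POmega F ⇑(minusForm m F a b)) →
      QElt (TI (HO (minusForm m F a b))) (E (minusForm m F a b)).subtype q m :=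
  fun _ _ _ _ _ _ hm hqF h2 hab h => qelt_minus hB hab (good_minus hab (by omega)) hq2 h2 hqF (by omega) h

/-- totally singular = totally isotropic -/
theorem sing_eq_TI {F : Type*} [Field F] {V : Type*} [AddCommGroup V] [Module F V] (Q : QuadraticForm F V)
    (h2 : (2 : F) ≠ 0) : (fun U : Submodule F V => ∀ u ∈ U, Q u = 0) = TI (HO Q) := by
  funext U
  apply propext
  constructor
  · intro h u hu v hv
    show polar Q u v = 0
    rw [polar, h _ (add_mem hu hv), h u hu, h v hv]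
    ring
  · intro h u hu
    have h1 : polar Q u u = 0 := h u hu u hu
    rw [polar_self'] at h1
    exact (mul_eq_zero.1 h1).resolve_left h2

/-- **plus type** -/
theorem qPlus_of (hB : CoreB.{0, 0}) {q : ℕ} [Fact q.Prime] (hq2 : q ≠ 2) {F : Type} [Field F] [Finite F] {m : ℕ}
    (hm : 3 ≤ m) (hqF : (q : F) ≠ 0) (h2 : (2 : F) ≠ 0) (h : q ∣ Nat.card (POmega F ⇑(plusForm m F))) :
    QElt (fun U : Submodule F (Fin m ⊕ Fin m → F) => ∀ u ∈ U, plusForm m F u = 0) (E (plusForm m F)).subtype q m := by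
  rw [sing_eq_TI (plusForm m F) h2]
  exact qelt_plus hB (good_plus hm) hq2 h2 hqF (by omega) h

end Cfsg.Agent.H977.PG
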